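import Cfsg.Agent.L34.CentralTwo
import Mathlib.FieldTheory.Finite.Basic
import Mathlib.LinearAlgebra.Matrix.GeneralLinearGroup.Card
import Mathlib.LinearAlgebra.Matrix.GeneralLinearGroup.Projective
import Mathlib.Tactic

/-!
The two elementary abelian subgroups of order 16 in a Sylow 2-subgroup of `PSL(3, 4)`, their normalisers, and
complements in central extensions.
-/

set_option autoImplicit false

namespace CfsgLib.L34

section Matrices

variable {F : Type*} [Field F] [Fintype F]

theorem char_two (hF : Fintype.card F = 4) : CharP F 2 := by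
  obtain ⟨p, hp⟩ := CharP.exists F
  haveI := hp
  obtain ⟨n, hpr, hn⟩ := FiniteField.card F p
  have h2 : p ∣ 2 ^ 2 := by
    rw [show (2 : ℕ) ^ 2 = 4 from rfl, ← hF, hn]; exact dvd_pow_self p n.pos.ne'
  rwa [← (Nat.prime_dvd_prime_iff_eq hpr Nat.prime_two).1 (hpr.dvd_of_dvd_pow h2)]

/-- Upper unitriangular matrices. -/
def upper (x y z : F) : Matrix.SpecialLinearGroup (Fin 3) F :=
  ⟨!![1, x, z; 0, 1, y; 0, 0, 1], by simp [Matrix.det_fin_three]⟩

theorem upper_coe (x y z : F) : (upper x y z).1 = !![1, x, z; 0, 1, y; 0, 0, 1] := rfl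

theorem upper_mul (x y z x' y' z' : F) :
    upper x y z * upper x' y' z' = upper (x + x') (y + y') (z + z' + x * y') := by
  apply Subtype.ext
  rw [Matrix.SpecialLinearGroup.coe_mul, upper_coe, upper_coe, upper_coe]
  ext i j
  fin_cases i <;> fin_cases j <;> simp [Matrix.mul_apply, Fin.sum_univ_three] <;> ring

theorem upper_zero : upper (0 : F) 0 0 = 1 := by
  apply Subtype.ext
  rw [upper_coe]
  ext i j
  fin_cases i <;> fin_cases j <;> simp

/-- The matrix `diag(1, M)`. -/
def block1 (M : Matrix (Fin 2) (Fin 2) F) : Matrix (Fin 3) (Fin 3) F :=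
  !![1, 0, 0; 0, M 0 0, M 0 1; 0, M 1 0, M 1 1]

/-- The matrix `diag(M, 1)`. -/
def block2 (M : Matrix (Fin 2) (Fin 2) F) : Matrix (Fin 3) (Fin 3) F :=
  !![M 0 0, M 0 1, 0; M 1 0, M 1 1, 0; 0, 0, 1]

theorem block1_mul (M N : Matrix (Fin 2) (Fin 2) F) : block1 (M * N) = block1 M * block1 N := by
  ext i j
  fin_cases i <;> fin_cases j <;> simp [block1, Matrix.mul_apply, Fin.sum_univ_three, Fin.sum_univ_two]

theorem block2_mul (M N : Matrix (Fin 2) (Fin 2) F) : block2 (M * N) = block2 M * block2 N := by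
  ext i j
  fin_cases i <;> fin_cases j <;> simp [block2, Matrix.mul_apply, Fin.sum_univ_three, Fin.sum_univ_two]

/-- `diag(1, B)`. -/
def lower1 : Matrix.SpecialLinearGroup (Fin 2) F →* Matrix.SpecialLinearGroup (Fin 3) F where
  toFun B := ⟨block1 B.1, by
    have := B.2; rw [Matrix.det_fin_two] at this; simpa [block1, Matrix.det_fin_three] using this⟩
  map_one' := by
    apply Subtype.ext
    show block1 1 = 1
    ext i j
    fin_cases i <;> fin_cases j <;> simp [block1]
  map_mul' A B := Subtype.ext (block1_mul A.1 B.1)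

theorem lower1_coe (B : Matrix.SpecialLinearGroup (Fin 2) F) : (lower1 B).1 = block1 B.1 := rfl

/-- `diag(B, 1)`. -/
def lower2 : Matrix.SpecialLinearGroup (Fin 2) F →* Matrix.SpecialLinearGroup (Fin 3) F where
  toFun B := ⟨block2 B.1, by
    have := B.2; rw [Matrix.det_fin_two] at this; simpa [block2, Matrix.det_fin_three] using this⟩
  map_one' := by
    apply Subtype.ext
    show block2 1 = 1
    ext i j
    fin_cases i <;> fin_cases j <;> simp [block2]
  map_mul' A B := Subtype.ext (block2_mul A.1 B.1)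

theorem lower2_coe (B : Matrix.SpecialLinearGroup (Fin 2) F) : (lower2 B).1 = block2 B.1 := rfl

/-- The projection to the projective group. -/
def proj : Matrix.SpecialLinearGroup (Fin 3) F →* Matrix.ProjectiveSpecialLinearGroup (Fin 3) F :=
  QuotientGroup.mk' (Subgroup.center _)

theorem cube_eq_one (hF : Fintype.card F = 4) {d : F} (hd : d ≠ 0) : d ^ 3 = 1 := by
  have := FiniteField.pow_card_sub_one_eq_one d hd
  rwa [hF] at this

theorem proj_eq {g h : Matrix.SpecialLinearGroup (Fin 3) F} (e : proj g = proj h) :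
    ∃ r : F, r ^ 3 = 1 ∧ h.1 = r • g.1 := by
  obtain ⟨r, hr, hr2⟩ := Matrix.SpecialLinearGroup.mem_center_iff.1 (QuotientGroup.eq.1 e)
  refine ⟨r, by simpa using hr, ?_⟩
  have : h.1 = g.1 * (g⁻¹ * h).1 := by
    rw [← Matrix.SpecialLinearGroup.coe_mul, mul_inv_cancel_left]
  rw [this, ← hr2]
  ext i j
  simp [Matrix.scalar_apply, Matrix.mul_diagonal, mul_comm]

theorem proj_smul {g h : Matrix.SpecialLinearGroup (Fin 3) F} (r : F) (e : h.1 = r • g.1) : proj g = proj h := by
  refine QuotientGroup.eq.2 (Matrix.SpecialLinearGroup.mem_center_iff.2 ⟨r, ?_, ?_⟩)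
  · have h1 := h.2
    rw [e, Matrix.det_smul, g.2, mul_one] at h1
    exact h1
  · rw [Matrix.SpecialLinearGroup.coe_mul, e, Matrix.mul_smul, ← Matrix.SpecialLinearGroup.coe_mul, inv_mul_cancel]
    ext i j
    by_cases hij : i = j <;> simp [Matrix.scalar_apply, hij]

theorem proj_upper_inj {x y z x' y' z' : F} (e : proj (upper x y z) = proj (upper x' y' z')) :
    x = x' ∧ y = y' ∧ z = z' := by
  obtain ⟨r, -, hr⟩ := proj_eq e
  rw [upper_coe, upper_coe] at hr
  have h0 := congrFun (congrFun hr 0) 0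
  have h1 := congrFun (congrFun hr 0) 1
  have h2 := congrFun (congrFun hr 1) 2
  have h3 := congrFun (congrFun hr 0) 2
  simp at h0 h1 h2 h3
  rw [← h0] at h1 h2 h3
  simp at h1 h2 h3
  exact ⟨h1.symm, h2.symm, h3.symm⟩

/-- Structure of the projective group over the field of order four used below. -/
structure Data (F : Type*) [Field F] where
  U : Subgroup (Matrix.ProjectiveSpecialLinearGroup (Fin 3) F)
  A₁ : Subgroup (Matrix.ProjectiveSpecialLinearGroup (Fin 3) F)
  A₂ : Subgroup (Matrix.ProjectiveSpecialLinearGroup (Fin 3) F)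
  sylow : ∀ S : Sylow 2 (Matrix.ProjectiveSpecialLinearGroup (Fin 3) F), ∃ g, (S : Subgroup _).map (MulAut.conj g).toMonoidHom = U
  cases : ∀ A, A ≤ U → (∀ a ∈ A, a * a = 1) → Nat.card A = 16 → A = A₁ ∨ A = A₂
  sup_eq : ∀ p ∈ U, ∃ a ∈ A₁, ∃ b ∈ A₂, p = a * b
  centre : ∀ p ∈ U, (∀ q ∈ U, q * p = p * q) → p ∈ A₁ ∧ p ∈ A₂
  le₁ : A₁ ≤ U
  le₂ : A₂ ≤ U
  card_U : Nat.card U = 64

/-- Local data for one of the two maximal elementary abelian subgroups. -/
def HasComplementData (A B : Subgroup (Matrix.ProjectiveSpecialLinearGroup (Fin 3) F)) : Prop :=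
  (∀ a ∈ A, a * a = 1) ∧ Nat.card A = 16 ∧
  ∃ S : Subgroup (Matrix.ProjectiveSpecialLinearGroup (Fin 3) F),
    Nonempty (↥S ≃* Matrix.ProjectiveSpecialLinearGroup (Fin 2) F) ∧
    (∀ s ∈ S, ∀ a ∈ A, s * a * s⁻¹ ∈ A) ∧ (∀ p ∈ A, p ∈ S → p = 1) ∧
    (∀ q, (∀ a ∈ A, q * a * q⁻¹ ∈ A) → ∃ s ∈ S, ∃ a ∈ A, q = s * a) ∧
    (∃ e, ∀ a ∈ A, a ≠ 1 → ∃ s, s * e * s⁻¹ = a) ∧
    ∃ V : Subgroup (Matrix.ProjectiveSpecialLinearGroup (Fin 3) F), V ≤ S ∧ V ≤ B ∧ Odd (V.relIndex S)

theorem sl2_card (hF : Fintype.card F = 4) : Nat.card (Matrix.SpecialLinearGroup (Fin 2) F) = 60 := by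
  classical
  let d : GL (Fin 2) F →* Fˣ := Matrix.GeneralLinearGroup.det
  have hd : Function.Surjective d := by
    intro u
    refine ⟨Matrix.GeneralLinearGroup.mk' !![(u : F), 0; 0, 1]
      (invertibleOfNonzero (by simp [Matrix.det_fin_two])), Units.ext ?_⟩
    simp [d, Matrix.det_fin_two]
  have hk : d.ker = (Matrix.SpecialLinearGroup.toGL (n := Fin 2) (R := F)).range := by
    ext g
    constructor
    · intro hg
      refine ⟨⟨g.1, congrArg Units.val (MonoidHom.mem_ker.1 hg)⟩, Units.ext rfl⟩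
    · rintro ⟨s, rfl⟩
      exact MonoidHom.mem_ker.2 (Units.ext s.2)
  have h1 := Subgroup.card_eq_card_quotient_mul_card_subgroup d.ker
  rw [Nat.card_congr (QuotientGroup.quotientKerEquivOfSurjective d hd).toEquiv, hk,
    ← Nat.card_congr (MonoidHom.ofInjective Matrix.SpecialLinearGroup.toGL_injective).toEquiv,
    Matrix.card_GL_field, Fin.prod_univ_two, Nat.card_units, Nat.card_eq_fintype_card, hF] at h1
  norm_num at h1
  rw [← Nat.card_eq_fintype_card] at h1
  omega

theorem sl2_equiv (hF : Fintype.card F = 4) :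
    Nonempty (Matrix.SpecialLinearGroup (Fin 2) F ≃* Matrix.ProjectiveSpecialLinearGroup (Fin 2) F) := by
  haveI := char_two hF
  have : Subgroup.center (Matrix.SpecialLinearGroup (Fin 2) F) = ⊥ := by
    rw [eq_bot_iff]
    intro g hg
    obtain ⟨r, hr, hr2⟩ := Matrix.SpecialLinearGroup.mem_center_iff.1 hg
    simp at hr
    have h1 : r = 1 := by
      rcases hr with h | h
      · exact h
      · rw [h, CharTwo.neg_eq]
    rw [Subgroup.mem_bot]
    apply Subtype.ext
    rw [← hr2, h1, map_one]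
    rfl
  exact ⟨(QuotientGroup.quotientBot.symm).trans (QuotientGroup.quotientMulEquivOfEq this.symm)⟩

theorem complete_sl2 (hF : Fintype.card F = 4) (x z : F) (h : x ≠ 0 ∨ z ≠ 0) :
    ∃ B : Matrix.SpecialLinearGroup (Fin 2) F, B.1 1 1 = x ∧ B.1 0 1 = z := by
  haveI := char_two hF
  by_cases hx : x = 0
  · subst hx
    have hz : z ≠ 0 := h.resolve_left (fun q => q rfl)
    exact ⟨⟨!![0, z; z⁻¹, 0], by simp [Matrix.det_fin_two, hz, CharTwo.neg_eq]⟩, rfl, rfl⟩
  · exact ⟨⟨!![x⁻¹, z; 0, x], by simp [Matrix.det_fin_two, hx]⟩, rfl, rfl⟩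

theorem exists_data (hF : Fintype.card F = 4) :
    ∃ D : Data F, HasComplementData D.A₁ D.A₂ ∧ HasComplementData D.A₂ D.A₁ := by
  classical
  haveI := char_two hF
  haveI : Fact (Nat.Prime 2) := ⟨Nat.prime_two⟩
  have h2 : (2 : F) = 0 := CharTwo.two_eq_zero
  let U : Subgroup (Matrix.ProjectiveSpecialLinearGroup (Fin 3) F) :=
    { carrier := {p | ∃ x y z, p = proj (upper x y z)}
      one_mem' := ⟨0, 0, 0, by rw [upper_zero, map_one]⟩
      mul_mem' := by
        rintro _ _ ⟨x, y, z, rfl⟩ ⟨x', y', z', rfl⟩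
        exact ⟨_, _, _, by rw [← map_mul, upper_mul]⟩
      inv_mem' := by
        rintro _ ⟨x, y, z, rfl⟩
        refine ⟨x, y, z + x * y, inv_eq_of_mul_eq_one_right ?_⟩
        rw [← map_mul, upper_mul, CharTwo.add_self_eq_zero, CharTwo.add_self_eq_zero]
        rw [show z + (z + x * y) + x * y = 0 by linear_combination (z + x * y) * h2, upper_zero, map_one] }
  let A₁ : Subgroup (Matrix.ProjectiveSpecialLinearGroup (Fin 3) F) :=
    { carrier := {p | ∃ x z, p = proj (upper x 0 z)}
      one_mem' := ⟨0, 0, by rw [upper_zero, map_one]⟩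
      mul_mem' := by
        rintro _ _ ⟨x, z, rfl⟩ ⟨x', z', rfl⟩
        exact ⟨_, _, by rw [← map_mul, upper_mul, mul_zero, add_zero, add_zero]⟩
      inv_mem' := by
        rintro _ ⟨x, z, rfl⟩
        refine ⟨x, z, inv_eq_of_mul_eq_one_right ?_⟩
        rw [← map_mul, upper_mul, mul_zero, add_zero, add_zero, CharTwo.add_self_eq_zero, CharTwo.add_self_eq_zero,
          upper_zero, map_one] }
  let A₂ : Subgroup (Matrix.ProjectiveSpecialLinearGroup (Fin 3) F) :=
    { carrier := {p | ∃ y z, p = proj (upper 0 y z)}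
      one_mem' := ⟨0, 0, by rw [upper_zero, map_one]⟩
      mul_mem' := by
        rintro _ _ ⟨y, z, rfl⟩ ⟨y', z', rfl⟩
        exact ⟨_, _, by rw [← map_mul, upper_mul, zero_mul, add_zero, add_zero]⟩
      inv_mem' := by
        rintro _ ⟨y, z, rfl⟩
        refine ⟨y, z, inv_eq_of_mul_eq_one_right ?_⟩
        rw [← map_mul, upper_mul, zero_mul, add_zero, add_zero, CharTwo.add_self_eq_zero, CharTwo.add_self_eq_zero,
          upper_zero, map_one] }
  have hA1e : ∀ a ∈ A₁, a * a = 1 := by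
    rintro _ ⟨x, z, rfl⟩
    rw [← map_mul, upper_mul, mul_zero, add_zero, add_zero, CharTwo.add_self_eq_zero, CharTwo.add_self_eq_zero,
      upper_zero, map_one]
  have hA2e : ∀ a ∈ A₂, a * a = 1 := by
    rintro _ ⟨y, z, rfl⟩
    rw [← map_mul, upper_mul, zero_mul, add_zero, add_zero, CharTwo.add_self_eq_zero, CharTwo.add_self_eq_zero,
      upper_zero, map_one]
  have hcardU : Nat.card U = 64 := by
    have hb : Function.Bijective (fun v : F × F × F => (⟨_, v.1, v.2.1, v.2.2, rfl⟩ : U)) := by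
      refine ⟨fun u v h => ?_, fun ⟨_, x, y, z, rfl⟩ => ⟨(x, y, z), rfl⟩⟩
      obtain ⟨a, b, c⟩ := proj_upper_inj (congrArg Subtype.val h)
      exact Prod.ext a (Prod.ext b c)
    rw [← Nat.card_congr (Equiv.ofBijective _ hb), Nat.card_prod, Nat.card_prod, Nat.card_eq_fintype_card, hF]
  have hcard1 : Nat.card A₁ = 16 := by
    have hb : Function.Bijective (fun v : F × F => (⟨_, v.1, v.2, rfl⟩ : A₁)) := by
      refine ⟨fun u v h => ?_, fun ⟨_, x, z, rfl⟩ => ⟨(x, z), rfl⟩⟩
      obtain ⟨a, -, c⟩ := proj_upper_inj (congrArg Subtype.val h)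
      exact Prod.ext a c
    rw [← Nat.card_congr (Equiv.ofBijective _ hb), Nat.card_prod, Nat.card_eq_fintype_card, hF]
  have hcard2 : Nat.card A₂ = 16 := by
    have hb : Function.Bijective (fun v : F × F => (⟨_, v.1, v.2, rfl⟩ : A₂)) := by
      refine ⟨fun u v h => ?_, fun ⟨_, y, z, rfl⟩ => ⟨(y, z), rfl⟩⟩
      obtain ⟨-, a, c⟩ := proj_upper_inj (congrArg Subtype.val h)
      exact Prod.ext a c
    rw [← Nat.card_congr (Equiv.ofBijective _ hb), Nat.card_prod, Nat.card_eq_fintype_card, hF]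
  have hle : ∀ S : Sylow 2 (Matrix.ProjectiveSpecialLinearGroup (Fin 3) F), Nat.card S ≤ 2 ^ 6 := by
    intro S
    obtain ⟨k, hk⟩ := IsPGroup.iff_card.1 S.2
    have h1 : Nat.card (Matrix.ProjectiveSpecialLinearGroup (Fin 3) F) ∣ Nat.card (GL (Fin 3) F) :=
      (Subgroup.card_quotient_dvd_card _).trans
        (Subgroup.card_dvd_of_injective Matrix.SpecialLinearGroup.toGL Matrix.SpecialLinearGroup.toGL_injective)
    have h2 : 2 ^ k ∣ 181440 := by
      have hG : Nat.card (GL (Fin 3) F) = 181440 := by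
        rw [Matrix.card_GL_field, Fin.prod_univ_three, hF]
        rfl
      rw [← hk, ← hG]
      exact (Subgroup.card_subgroup_dvd_card _).trans h1
    show Nat.card (S : Subgroup (Matrix.ProjectiveSpecialLinearGroup (Fin 3) F)) ≤ _
    rw [hk]
    refine Nat.pow_le_pow_right (by norm_num) ?_
    by_contra hk6
    have : 2 ^ 7 ∣ 181440 := (pow_dvd_pow 2 (by omega : 7 ≤ k)).trans h2
    norm_num at this
  let D : Data F :=
    { U := U, A₁ := A₁, A₂ := A₂
      sylow := by
        intro S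
        have hUp : IsPGroup 2 U := IsPGroup.of_card (n := 6) (by rw [hcardU]; norm_num)
        obtain ⟨S₀, hS₀⟩ := hUp.exists_le_sylow
        have heq : U = S₀ := Subgroup.eq_of_le_of_card_ge hS₀ (by rw [hcardU]; exact hle S₀)
        obtain ⟨g, hg⟩ := MulAction.exists_smul_eq (Matrix.ProjectiveSpecialLinearGroup (Fin 3) F) S S₀
        exact ⟨g, by rw [heq, ← hg]; rfl⟩
      cases := by
        intro A hA hA2 hc
        by_cases h : A ≤ A₁
        · exact Or.inl (Subgroup.eq_of_le_of_card_ge h (by rw [hc, hcard1]))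
        · refine Or.inr (Subgroup.eq_of_le_of_card_ge ?_ (by rw [hc, hcard2]))
          have key : ∀ x y z, proj (upper x y z) ∈ A → x = 0 ∨ y = 0 := by
            intro x y z hm
            have h1 := hA2 _ hm
            rw [← map_mul, upper_mul, ← map_one proj, ← upper_zero] at h1
            obtain ⟨-, -, h3⟩ := proj_upper_inj h1
            exact mul_eq_zero.1 (by linear_combination h3 - z * h2)
          obtain ⟨p, hp, hp1⟩ := SetLike.not_le_iff_exists.1 h
          obtain ⟨x, y, z, rfl⟩ := hA hp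
          have hy : y ≠ 0 := fun q => hp1 ⟨x, z, by rw [q]⟩
          have hx : x = 0 := (key x y z hp).resolve_right hy
          subst hx
          intro q hq
          obtain ⟨x', y', z', rfl⟩ := hA hq
          have hm := A.mul_mem hp hq
          rw [← map_mul, upper_mul] at hm
          rcases key _ _ _ hq with h1 | h1
          · exact ⟨y', z', by rw [h1]⟩
          · have h3 := key _ _ _ hm
            rw [h1, zero_add, add_zero] at h3
            exact ⟨y', z', by rw [h3.resolve_right hy]⟩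
      sup_eq := by
        rintro _ ⟨x, y, z, rfl⟩
        exact ⟨_, ⟨x, z + x * y, rfl⟩, _, ⟨y, 0, rfl⟩, by
          rw [← map_mul, upper_mul, add_zero, zero_add, add_zero,
            show z + x * y + x * y = z by linear_combination x * y * h2]⟩
      centre := by
        rintro _ ⟨x, y, z, rfl⟩ hc
        have e1 := hc _ ⟨1, 0, 0, rfl⟩
        have e2 := hc _ ⟨0, 1, 0, rfl⟩
        rw [← map_mul, ← map_mul, upper_mul, upper_mul] at e1 e2
        obtain ⟨-, -, a⟩ := proj_upper_inj e1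
        obtain ⟨-, -, b⟩ := proj_upper_inj e2
        have hy : y = 0 := by linear_combination a
        have hx : x = 0 := by linear_combination -b
        exact ⟨⟨x, z, by rw [hy]⟩, ⟨y, z, by rw [hx]⟩⟩
      le₁ := by rintro _ ⟨x, z, rfl⟩; exact ⟨x, 0, z, rfl⟩
      le₂ := by rintro _ ⟨y, z, rfl⟩; exact ⟨0, y, z, rfl⟩
      card_U := hcardU }
  let root : Multiplicative F →* Matrix.SpecialLinearGroup (Fin 2) F :=
    MonoidHom.mk' (fun t => ⟨!![1, t.toAdd; 0, 1], by simp [Matrix.det_fin_two]⟩) (fun s t => by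
      apply Subtype.ext
      show (!![1, (s * t).toAdd; 0, 1] : Matrix (Fin 2) (Fin 2) F) = !![1, s.toAdd; 0, 1] * !![1, t.toAdd; 0, 1]
      ext i j
      fin_cases i <;> fin_cases j <;> simp [Matrix.mul_apply, add_comm])
  have rootinj : Function.Injective root := by
    intro s t h
    have := congrFun (congrFun (congrArg Subtype.val h) 0) 1
    exact Multiplicative.toAdd.injective this
  have mkS : ∀ θ : Matrix.SpecialLinearGroup (Fin 2) F →* Matrix.ProjectiveSpecialLinearGroup (Fin 3) F,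
      Function.Injective θ → Nonempty (↥θ.range ≃* Matrix.ProjectiveSpecialLinearGroup (Fin 2) F) ∧
        Odd ((θ.comp root).range.relIndex θ.range) := by
    intro θ hθ
    obtain ⟨e⟩ := sl2_equiv hF
    refine ⟨⟨(MonoidHom.ofInjective hθ).symm.trans e⟩, ?_⟩
    have h1 : Nat.card (θ.comp root).range = 4 := by
      rw [← Nat.card_congr (MonoidHom.ofInjective (f := θ.comp root) (hθ.comp rootinj)).toEquiv,
        Nat.card_congr Multiplicative.toAdd, Nat.card_eq_fintype_card, hF]
    have h3 : Nat.card θ.range = 60 := by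
      rw [← Nat.card_congr (MonoidHom.ofInjective hθ).toEquiv, sl2_card hF]
    have h4 := Subgroup.relIndex_mul_relIndex ⊥ (θ.comp root).range θ.range bot_le (by
      rintro _ ⟨t, rfl⟩; exact ⟨root t, rfl⟩)
    rw [Subgroup.relIndex_bot_left, Subgroup.relIndex_bot_left, h1, h3] at h4
    exact ⟨7, by omega⟩
  refine ⟨D, ⟨hA1e, hcard1, ?_⟩, ⟨hA2e, hcard2, ?_⟩⟩
  · let θ : Matrix.SpecialLinearGroup (Fin 2) F →* Matrix.ProjectiveSpecialLinearGroup (Fin 3) F := proj.comp lower1
    have hθ : Function.Injective θ := by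
      intro A B h
      obtain ⟨r, -, hr⟩ := proj_eq h
      have h0 := congrFun (congrFun hr 0) 0
      simp [lower1_coe, block1] at h0
      subst h0
      apply Subtype.ext
      ext i j
      have e00 := congrFun (congrFun hr 1) 1
      have e01 := congrFun (congrFun hr 1) 2
      have e10 := congrFun (congrFun hr 2) 1
      have e11 := congrFun (congrFun hr 2) 2
      simp [lower1_coe, block1] at e00 e01 e10 e11
      fin_cases i <;> fin_cases j <;> simp [e00, e01, e10, e11]
    obtain ⟨hS, hV⟩ := mkS θ hθ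
    refine ⟨θ.range, hS, ?_, ?_, ?_, ?_, (θ.comp root).range, ?_, ?_, hV⟩
    · rintro _ ⟨B, rfl⟩ _ ⟨x, z, rfl⟩
      refine ⟨x * B.1 1 1 + z * B.1 1 0, x * B.1 0 1 + z * B.1 0 0, ?_⟩
      rw [mul_inv_eq_iff_eq_mul]
      show proj (lower1 B) * _ = _ * proj (lower1 B)
      rw [← map_mul, ← map_mul]
      congr 1
      apply Subtype.ext
      have hd := B.2
      rw [Matrix.det_fin_two] at hd
      rw [Matrix.SpecialLinearGroup.coe_mul, Matrix.SpecialLinearGroup.coe_mul, upper_coe, upper_coe]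
      ext i j
      fin_cases i <;> fin_cases j <;> simp [lower1_coe, block1, Matrix.mul_apply, Fin.sum_univ_three]
      · linear_combination -x * hd - (x * B.1 0 1 * B.1 1 0 + z * B.1 1 0 * B.1 0 0) * h2
      · linear_combination -z * hd - (z * B.1 0 1 * B.1 1 0 + x * B.1 0 1 * B.1 1 1) * h2
    · rintro _ ⟨x, z, rfl⟩ ⟨B, hB⟩
      obtain ⟨r, -, hr⟩ := proj_eq hB
      rw [upper_coe] at hr
      have h0 := congrFun (congrFun hr 0) 0
      have h1 := congrFun (congrFun hr 0) 1
      have h3 := congrFun (congrFun hr 0) 2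
      simp [lower1_coe, block1] at h0 h1 h3
      rw [h1, h3, upper_zero, map_one]
    · intro q hq
      obtain ⟨g, rfl⟩ := QuotientGroup.mk_surjective q
      change ∀ a ∈ A₁, proj g * a * (proj g)⁻¹ ∈ A₁ at hq
      obtain ⟨x', z', h⟩ := hq _ ⟨1, 0, rfl⟩
      rw [mul_inv_eq_iff_eq_mul, ← map_mul, ← map_mul] at h
      obtain ⟨r, -, hr⟩ := proj_eq h
      rw [Matrix.SpecialLinearGroup.coe_mul, Matrix.SpecialLinearGroup.coe_mul, upper_coe, upper_coe] at hr
      have a1 := congrFun (congrFun hr 1) 0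
      have b1 := congrFun (congrFun hr 1) 1
      have a2 := congrFun (congrFun hr 2) 0
      have b2 := congrFun (congrFun hr 2) 1
      simp [Matrix.mul_apply, Fin.sum_univ_three] at a1 b1 a2 b2
      have g10 : g.1 1 0 = 0 := by
        by_cases hr1 : r = 1
        · subst hr1; linear_combination -b1
        · have : g.1 1 0 * (1 - r) = 0 := by linear_combination a1
          exact (mul_eq_zero.1 this).resolve_right (sub_ne_zero.2 (Ne.symm hr1))
      have g20 : g.1 2 0 = 0 := by
        by_cases hr1 : r = 1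
        · subst hr1; linear_combination -b2
        · have : g.1 2 0 * (1 - r) = 0 := by linear_combination a2
          exact (mul_eq_zero.1 this).resolve_right (sub_ne_zero.2 (Ne.symm hr1))
      have hdet := g.2
      rw [Matrix.det_fin_three, g10, g20] at hdet
      set d := g.1 0 0 with hdd
      have hd0 : d ≠ 0 := fun q => by rw [q] at hdet; simp at hdet
      have hd3 := cube_eq_one hF hd0
      let B : Matrix.SpecialLinearGroup (Fin 2) F :=
        ⟨!![d⁻¹ * g.1 1 1, d⁻¹ * g.1 1 2; d⁻¹ * g.1 2 1, d⁻¹ * g.1 2 2], by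
          have hinv : d * d⁻¹ = 1 := mul_inv_cancel₀ hd0
          have hi3 : d⁻¹ * d⁻¹ * d⁻¹ = 1 := by
            rw [← pow_two, ← pow_succ, inv_pow, hd3, inv_one]
          simp [Matrix.det_fin_two]
          linear_combination (d⁻¹ * d⁻¹ * d⁻¹) * hdet + hi3 - (d⁻¹ * d⁻¹ * (g.1 1 1 * g.1 2 2 - g.1 1 2 * g.1 2 1)) * hinv⟩
      refine ⟨θ B, ⟨B, rfl⟩, proj (upper (d⁻¹ * g.1 0 1) 0 (d⁻¹ * g.1 0 2)), ⟨_, _, rfl⟩, ?_⟩
      show proj g = proj (lower1 B) * _
      rw [← map_mul]
      refine (proj_smul d ?_).symm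
      rw [Matrix.SpecialLinearGroup.coe_mul, upper_coe, lower1_coe]
      ext i j
      fin_cases i <;> fin_cases j <;> simp [lower1_coe, block1, B, Matrix.mul_apply, Fin.sum_univ_three, g10, g20, ← hdd,
        mul_inv_cancel_left₀ hd0]
    · refine ⟨proj (upper 1 0 0), ?_⟩
      rintro _ ⟨x, z, rfl⟩ hne
      obtain ⟨B, hB1, hB2⟩ := complete_sl2 hF x z (by
        by_contra hh; push Not at hh; exact hne (by rw [hh.1, hh.2, upper_zero, map_one]))
      refine ⟨θ B, ?_⟩
      rw [mul_inv_eq_iff_eq_mul]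
      show proj (lower1 B) * _ = _ * proj (lower1 B)
      rw [← map_mul, ← map_mul]
      congr 1
      apply Subtype.ext
      have hd := B.2
      rw [Matrix.det_fin_two, hB1, hB2] at hd
      rw [Matrix.SpecialLinearGroup.coe_mul, Matrix.SpecialLinearGroup.coe_mul, upper_coe, upper_coe]
      ext i j
      fin_cases i <;> fin_cases j <;> simp [lower1_coe, block1, Matrix.mul_apply, Fin.sum_univ_three, hB1, hB2]
      · linear_combination -hd - z * B.1 1 0 * h2
      · linear_combination -(x * z) * h2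
    · rintro _ ⟨t, rfl⟩; exact ⟨root t, rfl⟩
    · rintro _ ⟨t, rfl⟩
      refine ⟨t.toAdd, 0, ?_⟩
      show proj (lower1 (root t)) = _
      congr 1
  · let θ : Matrix.SpecialLinearGroup (Fin 2) F →* Matrix.ProjectiveSpecialLinearGroup (Fin 3) F := proj.comp lower2
    have hθ : Function.Injective θ := by
      intro A B h
      obtain ⟨r, -, hr⟩ := proj_eq h
      have h0 := congrFun (congrFun hr 2) 2
      simp [lower2_coe, block2] at h0
      subst h0
      apply Subtype.ext
      ext i j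
      have e00 := congrFun (congrFun hr 0) 0
      have e01 := congrFun (congrFun hr 0) 1
      have e10 := congrFun (congrFun hr 1) 0
      have e11 := congrFun (congrFun hr 1) 1
      simp [lower2_coe, block2] at e00 e01 e10 e11
      fin_cases i <;> fin_cases j <;> simp [e00, e01, e10, e11]
    obtain ⟨hS, hV⟩ := mkS θ hθ
    refine ⟨θ.range, hS, ?_, ?_, ?_, ?_, (θ.comp root).range, ?_, ?_, hV⟩
    · rintro _ ⟨B, rfl⟩ _ ⟨y, z, rfl⟩
      refine ⟨B.1 1 0 * z + B.1 1 1 * y, B.1 0 0 * z + B.1 0 1 * y, ?_⟩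
      rw [mul_inv_eq_iff_eq_mul]
      show proj (lower2 B) * _ = _ * proj (lower2 B)
      rw [← map_mul, ← map_mul]
      congr 1
      apply Subtype.ext
      rw [Matrix.SpecialLinearGroup.coe_mul, Matrix.SpecialLinearGroup.coe_mul, upper_coe, upper_coe]
      ext i j
      fin_cases i <;> fin_cases j <;> simp [lower2_coe, block2, Matrix.mul_apply, Fin.sum_univ_three]
    · rintro _ ⟨y, z, rfl⟩ ⟨B, hB⟩
      obtain ⟨r, -, hr⟩ := proj_eq hB
      rw [upper_coe] at hr
      have h1 := congrFun (congrFun hr 1) 2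
      have h3 := congrFun (congrFun hr 0) 2
      simp [lower2_coe, block2] at h1 h3
      rw [h1, h3, upper_zero, map_one]
    · intro q hq
      obtain ⟨g, rfl⟩ := QuotientGroup.mk_surjective q
      change ∀ a ∈ A₂, proj g * a * (proj g)⁻¹ ∈ A₂ at hq
      obtain ⟨y', z', h⟩ := hq _ ⟨1, 0, rfl⟩
      rw [mul_inv_eq_iff_eq_mul, ← map_mul, ← map_mul] at h
      obtain ⟨r, -, hr⟩ := proj_eq h
      rw [Matrix.SpecialLinearGroup.coe_mul, Matrix.SpecialLinearGroup.coe_mul, upper_coe, upper_coe] at hr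
      have a1 := congrFun (congrFun hr 2) 0
      have a2 := congrFun (congrFun hr 2) 1
      have a3 := congrFun (congrFun hr 2) 2
      have c0 := congrFun (congrFun hr 0) 0
      have c1 := congrFun (congrFun hr 1) 0
      have d0 := congrFun (congrFun hr 0) 1
      have d1 := congrFun (congrFun hr 1) 1
      simp [Matrix.mul_apply, Fin.sum_univ_three] at a1 a2 a3 c0 c1 d0 d1
      have hne : y' ≠ 0 ∨ z' ≠ 0 := by
        by_contra hh
        push Not at hh
        rw [hh.1, hh.2, upper_zero, one_mul, map_mul, mul_eq_left] at h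
        rw [← map_one proj, ← upper_zero] at h
        exact one_ne_zero (proj_upper_inj h).2.1
      have g2 : g.1 2 0 = 0 ∧ g.1 2 1 = 0 := by
        by_cases hr1 : r = 1
        · subst hr1
          rcases hne with hy | hz
          · exact ⟨(mul_eq_zero.1 (show y' * g.1 2 0 = 0 by linear_combination c1)).resolve_left hy,
              (mul_eq_zero.1 (show y' * g.1 2 1 = 0 by linear_combination d1)).resolve_left hy⟩
          · exact ⟨(mul_eq_zero.1 (show z' * g.1 2 0 = 0 by linear_combination c0)).resolve_left hz,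
              (mul_eq_zero.1 (show z' * g.1 2 1 = 0 by linear_combination d0)).resolve_left hz⟩
        · have u0 : g.1 2 0 * (1 - r) = 0 := by linear_combination a1
          have hz0 := (mul_eq_zero.1 u0).resolve_right (sub_ne_zero.2 (Ne.symm hr1))
          have u1 : g.1 2 1 * (1 - r) = 0 := by linear_combination a2
          exact ⟨hz0, (mul_eq_zero.1 u1).resolve_right (sub_ne_zero.2 (Ne.symm hr1))⟩
      have hdet := g.2
      rw [Matrix.det_fin_three, g2.1, g2.2] at hdet
      set d := g.1 2 2 with hdd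
      have hd0 : d ≠ 0 := fun q => by rw [q] at hdet; simp at hdet
      have hd3 := cube_eq_one hF hd0
      let B : Matrix.SpecialLinearGroup (Fin 2) F :=
        ⟨!![d⁻¹ * g.1 0 0, d⁻¹ * g.1 0 1; d⁻¹ * g.1 1 0, d⁻¹ * g.1 1 1], by
          have hinv : d * d⁻¹ = 1 := mul_inv_cancel₀ hd0
          have hi3 : d⁻¹ * d⁻¹ * d⁻¹ = 1 := by
            rw [← pow_two, ← pow_succ, inv_pow, hd3, inv_one]
          simp [Matrix.det_fin_two]
          linear_combination (d⁻¹ * d⁻¹ * d⁻¹) * hdet + hi3 - (d⁻¹ * d⁻¹ * (g.1 0 0 * g.1 1 1 - g.1 0 1 * g.1 1 0)) * hinv⟩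
      have hdB := B.2
      rw [Matrix.det_fin_two] at hdB
      refine ⟨θ B, ⟨B, rfl⟩, proj (upper 0 (B.1 1 0 * (d⁻¹ * g.1 0 2) + B.1 0 0 * (d⁻¹ * g.1 1 2))
          (B.1 1 1 * (d⁻¹ * g.1 0 2) + B.1 0 1 * (d⁻¹ * g.1 1 2))), ⟨_, _, rfl⟩, ?_⟩
      show proj g = proj (lower2 B) * _
      rw [← map_mul]
      refine (proj_smul d ?_).symm
      rw [Matrix.SpecialLinearGroup.coe_mul, upper_coe]
      rw [lower2_coe]
      have k0 : d * (d⁻¹ * g.1 0 2) = g.1 0 2 := mul_inv_cancel_left₀ hd0 _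
      have k1 : d * (d⁻¹ * g.1 1 2) = g.1 1 2 := mul_inv_cancel_left₀ hd0 _
      have b00 : d * B.1 0 0 = g.1 0 0 := mul_inv_cancel_left₀ hd0 _
      have b01 : d * B.1 0 1 = g.1 0 1 := mul_inv_cancel_left₀ hd0 _
      have b10 : d * B.1 1 0 = g.1 1 0 := mul_inv_cancel_left₀ hd0 _
      have b11 : d * B.1 1 1 = g.1 1 1 := mul_inv_cancel_left₀ hd0 _
      ext i j
      fin_cases i <;> fin_cases j <;>
        simp [block2, Matrix.mul_apply, Fin.sum_univ_three, g2.1, g2.2, ← hdd, b00, b01, b10, b11]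
      · linear_combination -k0 - (d * (d⁻¹ * g.1 0 2)) * hdB - (d * (B.1 0 1 * B.1 1 0 * (d⁻¹ * g.1 0 2) + B.1 0 0 * B.1 0 1 * (d⁻¹ * g.1 1 2))) * h2
      · linear_combination -k1 - (d * (d⁻¹ * g.1 1 2)) * hdB - (d * (B.1 0 1 * B.1 1 0 * (d⁻¹ * g.1 1 2) + B.1 1 0 * B.1 1 1 * (d⁻¹ * g.1 0 2))) * h2
    · refine ⟨proj (upper 0 1 0), ?_⟩
      rintro _ ⟨y, z, rfl⟩ hne
      obtain ⟨B, hB1, hB2⟩ := complete_sl2 hF y z (by
        by_contra hh; push Not at hh; exact hne (by rw [hh.1, hh.2, upper_zero, map_one]))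
      refine ⟨θ B, ?_⟩
      rw [mul_inv_eq_iff_eq_mul]
      show proj (lower2 B) * _ = _ * proj (lower2 B)
      rw [← map_mul, ← map_mul]
      congr 1
      apply Subtype.ext
      rw [Matrix.SpecialLinearGroup.coe_mul, Matrix.SpecialLinearGroup.coe_mul, upper_coe, upper_coe]
      ext i j
      fin_cases i <;> fin_cases j <;> simp [lower2_coe, block2, Matrix.mul_apply, Fin.sum_univ_three, hB1, hB2]
    · rintro _ ⟨t, rfl⟩; exact ⟨root t, rfl⟩
    · rintro _ ⟨t, rfl⟩
      refine ⟨t.toAdd, 0, ?_⟩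
      show proj (lower2 (root t)) = _
      congr 1

end Matrices

end CfsgLib.L34
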