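import Mathlib.GroupTheory.Transfer
import Mathlib.Tactic

/-!
A central subgroup splits off when a subgroup of odd index containing it has exponent two; an elementary
abelian group with a transitive action lifts to an elementary abelian preimage in a central extension.
-/

set_option autoImplicit false

namespace CfsgLib.L34

theorem split_central {G : Type*} [Group G] [Finite G] (Z P : Subgroup G) (hZc : Z ≤ Subgroup.center G)
    (hZP : Z ≤ P) (hPe : ∀ a ∈ P, a * a = 1) (hodd : Odd P.index) :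
    ∃ C : Subgroup G, C ⊓ Z = ⊥ ∧ ∀ g : G, ∃ c ∈ C, ∃ z ∈ Z, g = c * z := by
  classical
  have hPc : ∀ a b : P, a * b = b * a := fun a b => Subtype.ext (by
    have h1 := hPe _ (P.mul_mem a.2 b.2)
    have ha : (a : G)⁻¹ = a := inv_eq_of_mul_eq_one_right (hPe _ a.2)
    have hb : (b : G)⁻¹ = b := inv_eq_of_mul_eq_one_right (hPe _ b.2)
    show (a : G) * b = b * a
    rw [eq_inv_of_mul_eq_one_left h1, mul_inv_rev, ha, hb])
  have hinv : ∀ a : P, a⁻¹ = a := fun a => inv_eq_of_mul_eq_one_right (Subtype.ext (hPe _ a.2))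
  let Z' : Subgroup P := Z.subgroupOf P
  let Ws : Set (Subgroup P) := {W | ∀ w ∈ W, w ∈ Z' → w = 1}
  obtain ⟨W, hW⟩ := (Set.toFinite Ws).exists_maximal
    ⟨⊥, fun w hw _ => Subgroup.mem_bot.1 hw⟩
  haveI : W.Normal := ⟨fun w hw g => by rw [hPc g w, mul_inv_cancel_right]; exact hw⟩
  have hgen : ∀ p : P, ∃ z ∈ Z', z⁻¹ * p ∈ W := by
    intro p
    by_cases hp : p ∈ W
    · exact ⟨1, Z'.one_mem, by simpa using hp⟩
    let W2 : Subgroup P :=
      { carrier := {q | q ∈ W ∨ q * p ∈ W}
        one_mem' := Or.inl W.one_mem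
        mul_mem' := by
          rintro a b (ha | ha) (hb | hb)
          · exact Or.inl (W.mul_mem ha hb)
          · exact Or.inr (by rw [mul_assoc]; exact W.mul_mem ha hb)
          · exact Or.inr (by rw [mul_assoc, hPc b p, ← mul_assoc]; exact W.mul_mem ha hb)
          · refine Or.inl ?_
            have h := W.mul_mem ha hb
            have hpp : p * p = 1 := Subtype.ext (hPe _ p.2)
            rwa [mul_assoc, hPc p (b * p), mul_assoc b p p, hpp, mul_one] at h
        inv_mem' := by intro a ha; rwa [hinv a] }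
    by_contra hne
    push Not at hne
    have hW2 : W2 ∈ Ws := by
      rintro w (hw | hw) hwZ
      · exact hW.prop w hw hwZ
      · exact absurd (by rw [hinv]; exact hw) (hne w hwZ)
    have hle : W ≤ W2 := fun w hw => Or.inl hw
    refine hp (hW.le_of_ge hW2 hle ?_)
    exact Or.inr (by
      have hpp : p * p = 1 := Subtype.ext (hPe _ p.2)
      rw [hpp]; exact W.one_mem)
  letI : CommGroup (P ⧸ W) :=
    { (inferInstance : Group (P ⧸ W)) with
      mul_comm := fun a b => by
        obtain ⟨a, rfl⟩ := QuotientGroup.mk_surjective a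
        obtain ⟨b, rfl⟩ := QuotientGroup.mk_surjective b
        rw [← QuotientGroup.mk_mul, ← QuotientGroup.mk_mul, hPc] }
  let ϕ : P →* P ⧸ W := QuotientGroup.mk' W
  let V := MonoidHom.transfer ϕ
  have hVz : ∀ (z : G) (hz : z ∈ Z), V z = ϕ ⟨z, hZP hz⟩ := by
    intro z hz
    show MonoidHom.transfer ϕ z = _
    rw [MonoidHom.transfer_eq_pow ϕ z fun k g _ => by
      rw [mul_assoc, ← Subgroup.mem_center_iff.1 (Subgroup.pow_mem _ (hZc hz) k) g, inv_mul_cancel_left]]
    congr 1
    apply Subtype.ext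
    obtain ⟨r, hr⟩ := hodd
    show z ^ P.index = z
    rw [hr, pow_succ, pow_mul, pow_two, hPe z (hZP hz), one_pow, one_mul]
  refine ⟨V.ker, ?_, fun g => ?_⟩
  · rw [eq_bot_iff]
    rintro z ⟨hk, hz⟩
    have h1 : ϕ ⟨z, hZP hz⟩ = 1 := by rw [← hVz z hz]; exact hk
    have := hW.prop ⟨z, hZP hz⟩ ((QuotientGroup.eq_one_iff _).1 h1) hz
    exact Subgroup.mem_bot.2 (congrArg Subtype.val this)
  · obtain ⟨p, hp⟩ := QuotientGroup.mk_surjective (V g)
    obtain ⟨z, hz, hzp⟩ := hgen p
    refine ⟨g * (z : G)⁻¹, ?_, z, hz, (inv_mul_cancel_right g (z : G)).symm⟩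
    rw [MonoidHom.mem_ker, map_mul, map_inv, hVz z hz, ← hp, mul_inv_eq_one]
    exact (QuotientGroup.eq.2 hzp).symm

/-- An elementary abelian group of order 16 with a transitive group acting lifts to an elementary abelian preimage. -/
theorem lift_elementary {X Q : Type*} [Group X] [Group Q] (f : X →* Q) (hf : Function.Surjective f)
    (hker : f.ker = Subgroup.center X) (hZ2 : ∀ z ∈ Subgroup.center X, z * z = 1) (A : Subgroup Q) [Finite A]
    (hcard : 4 < Nat.card A) (hA2 : ∀ a ∈ A, a * a = 1) (e : Q)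
    (htr : ∀ a ∈ A, a ≠ 1 → ∃ s, s * e * s⁻¹ = a) :
    ∀ h ∈ A.comap f, h * h = 1 := by
  classical
  have hZmem : ∀ x : X, f x = 1 → x ∈ Subgroup.center X := fun x hx => by rw [← hker]; exact hx
  obtain ⟨e', he⟩ := hf e
  have key : ∀ h : X, f h ∈ A → f h ≠ 1 → h * h = e' * e' ∧ e' * e' ∈ Subgroup.center X := by
    intro h hh hh1
    obtain ⟨s, hs⟩ := htr _ hh hh1
    obtain ⟨s', rfl⟩ := hf s
    have hhh : h * h ∈ Subgroup.center X := hZmem _ (by rw [map_mul]; exact hA2 _ hh)
    have hee : e' * e' ∈ Subgroup.center X := hZmem _ (by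
      rw [map_mul, he]
      have h2 := hA2 _ hh
      rw [← hs] at h2
      calc e * e = (f s')⁻¹ * ((f s' * e * (f s')⁻¹) * (f s' * e * (f s')⁻¹)) * f s' := by group
        _ = 1 := by rw [h2]; group)
    obtain ⟨z, hz, rfl⟩ : ∃ z ∈ Subgroup.center X, h = s' * e' * s'⁻¹ * z := by
      refine ⟨(s' * e' * s'⁻¹)⁻¹ * h, hZmem _ ?_, (mul_inv_cancel_left _ _).symm⟩
      rw [map_mul, map_inv, map_mul, map_mul, map_inv, he, hs, inv_mul_cancel]
    refine ⟨?_, hee⟩
    have hz' := Subgroup.mem_center_iff.1 hz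
    calc s' * e' * s'⁻¹ * z * (s' * e' * s'⁻¹ * z)
        = s' * e' * s'⁻¹ * (z * (s' * e' * s'⁻¹)) * z := by group
      _ = s' * (e' * e') * s'⁻¹ * (z * z) := by rw [← hz']; group
      _ = e' * e' := by rw [Subgroup.mem_center_iff.1 hee s', hZ2 z hz, mul_one, mul_inv_cancel_right]
  intro h hh
  by_cases h1 : f h = 1
  · exact hZ2 h (hZmem h h1)
  obtain ⟨hhe, hee⟩ := key h hh h1
  rw [hhe]
  set c := e' * e' with hc
  -- the commutator of two independent elements is c
  have hcm : ∀ k l : X, f k ∈ A → f l ∈ A → f k ≠ 1 → f l ≠ 1 → f (k * l) ≠ 1 → k⁻¹ * l⁻¹ * k * l = c := by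
    intro k l hk hl hk1 hl1 hkl
    have e1 := (key k hk hk1).1
    have e2 := (key l hl hl1).1
    have e3 := (key (k * l) (by rw [map_mul]; exact A.mul_mem hk hl) hkl).1
    have hcz := Subgroup.mem_center_iff.1 hee
    have hcc : c * c = 1 := hZ2 c hee
    have ek : k⁻¹ = k * c := inv_eq_of_mul_eq_one_right (by rw [← mul_assoc, e1, hcc])
    have el : l⁻¹ = l * c := inv_eq_of_mul_eq_one_right (by rw [← mul_assoc, e2, hcc])
    rw [ek, el]
    calc k * c * (l * c) * k * l = k * (c * l) * (c * k) * l := by group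
      _ = k * (l * c) * (k * c) * l := by rw [← hcz l, ← hcz k]
      _ = k * l * (c * k) * (c * l) := by group
      _ = k * l * (k * c) * (l * c) := by rw [← hcz l, ← hcz k]
      _ = (k * l * k) * (c * l) * c := by group
      _ = (k * l * (k * l)) * (c * c) := by rw [← hcz l]; group
      _ = c := by rw [hcc, mul_one, e3]
  haveI := Fintype.ofFinite A
  obtain ⟨k, hk, hk1, hkh⟩ : ∃ k, f k ∈ A ∧ f k ≠ 1 ∧ f k ≠ f h := by
    by_contra hne
    push Not at hne
    have : Finset.univ ⊆ ({1, ⟨f h, hh⟩} : Finset A) := by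
      intro a _
      obtain ⟨k, hk⟩ := hf (a : Q)
      simp only [Finset.mem_insert, Finset.mem_singleton]
      by_cases ha : a = 1
      · exact Or.inl ha
      · refine Or.inr (Subtype.ext ?_)
        rw [← hk]
        exact hne k (by rw [hk]; exact a.2) (by rw [hk]; exact fun q => ha (Subtype.ext q))
    have := Finset.card_le_card this
    rw [Finset.card_univ, ← Nat.card_eq_fintype_card] at this
    have := this.trans Finset.card_le_two
    omega
  obtain ⟨l, hl, hl1, hlh, hlk, hlhk⟩ :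
      ∃ l, f l ∈ A ∧ f l ≠ 1 ∧ f l ≠ f h ∧ f l ≠ f k ∧ f l ≠ f h * f k := by
    by_contra hne
    push Not at hne
    have : Finset.univ ⊆ ({1, ⟨f h, hh⟩, ⟨f k, hk⟩, ⟨f h * f k, A.mul_mem hh hk⟩} : Finset A) := by
      intro a _
      obtain ⟨l, hl⟩ := hf (a : Q)
      simp only [Finset.mem_insert, Finset.mem_singleton, Subtype.ext_iff, ← hl, OneMemClass.coe_one]
      by_cases h1 : f l = 1
      · exact Or.inl h1
      by_cases h2 : f l = f h
      · exact Or.inr (Or.inl h2)
      by_cases h3 : f l = f k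
      · exact Or.inr (Or.inr (Or.inl h3))
      exact Or.inr (Or.inr (Or.inr (hne l (by rw [hl]; exact a.2) h1 h2 h3)))
    have := Finset.card_le_card this
    rw [Finset.card_univ, ← Nat.card_eq_fintype_card] at this
    have := this.trans Finset.card_le_four
    omega
  have inv2 : ∀ a : X, f a ∈ A → (f a)⁻¹ = f a := fun a ha => inv_eq_of_mul_eq_one_right (hA2 _ ha)
  have ne_mul : ∀ a b : X, f a ∈ A → f b ≠ f a → f (a * b) ≠ 1 := fun a b ha hne q => hne (by
    rw [map_mul] at q; rw [← inv2 a ha]; exact (inv_eq_of_mul_eq_one_right q).symm)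
  have c1 := hcm h k hh hk h1 hk1 (ne_mul h k hh hkh)
  have c2 := hcm h l hh hl h1 hl1 (ne_mul h l hh hlh)
  have hkl1 : f (k * l) ≠ 1 := ne_mul k l hk hlk
  have hklA : f (k * l) ∈ A := by rw [map_mul]; exact A.mul_mem hk hl
  have c3 := hcm h (k * l) hh hklA h1 hkl1 (ne_mul h (k * l) hh fun q => hlhk (by
    rw [map_mul] at q
    calc f l = (f k)⁻¹ * (f k * f l) := by group
      _ = f k * f h := by rw [inv2 k hk, q]
      _ = f h * f k := by
        have h2 := hA2 _ (A.mul_mem hh hk)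
        have := eq_inv_of_mul_eq_one_left h2
        rw [mul_inv_rev, inv2 h hh, inv2 k hk] at this
        exact this.symm))
  have hcz := Subgroup.mem_center_iff.1 hee
  have : c = c * c := by
    calc c = h⁻¹ * (k * l)⁻¹ * h * (k * l) := c3.symm
      _ = h⁻¹ * l⁻¹ * h * ((h⁻¹ * k⁻¹ * h * k) * l) := by group
      _ = h⁻¹ * l⁻¹ * h * (l * c) := by rw [c1, ← hcz l]
      _ = (h⁻¹ * l⁻¹ * h * l) * c := by group
      _ = c * c := by rw [c2]
  exact (mul_eq_left.1 this.symm)

end CfsgLib.L34
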